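import Groth.Prelude.Def_Grpd
import Groth.Agent.L19.Closure
import Mathlib.AlgebraicGeometry.IdealSheaf.Subscheme
import Mathlib.AlgebraicGeometry.Morphisms.UniversallyOpen

/-!
# Saturations of quasi-compact opens of a groupoid
-/

set_option autoImplicit false
set_option backward.isDefEq.respectTransparency.types false

universe u

open CategoryTheory CategoryTheory.Limits AlgebraicGeometry

namespace Groth.L24.Orbit

variable {S : Scheme.{u}} (G : Grpd.GroupoidScheme S)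

/-- The saturation of a set of objects. -/
def sat (E : Set G.U) : Set G.U := ⇑G.t '' (⇑G.s ⁻¹' E)

theorem subset_sat (E : Set G.U) : E ⊆ sat G E := fun x hx => by
  refine ⟨G.e x, ?_, ?_⟩
  · show G.s (G.e x) ∈ E
    rw [← Scheme.Hom.comp_apply, G.e_s]
    exact hx
  · rw [← Scheme.Hom.comp_apply, G.e_t]
    rfl

theorem exists_comp (r r₀ : G.R) (h : G.s r = G.t r₀) : ∃ r' : G.R, G.s r' = G.s r₀ ∧ G.t r' = G.t r := by
  obtain ⟨z, hz₁, hz₂⟩ := Scheme.Pullback.exists_preimage_pullback r r₀ h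
  have hs : G.c ≫ G.s = pullback.snd G.s G.t ≫ G.s := by
    have := G.comp_s (pullback.fst G.s G.t) (pullback.snd G.s G.t) pullback.condition
    rwa [show pullback.lift (pullback.fst G.s G.t) (pullback.snd G.s G.t) pullback.condition = 𝟙 _ by
      apply pullback.hom_ext <;> simp, Category.id_comp] at this
  have ht : G.c ≫ G.t = pullback.fst G.s G.t ≫ G.t := by
    have := G.comp_t (pullback.fst G.s G.t) (pullback.snd G.s G.t) pullback.condition
    rwa [show pullback.lift (pullback.fst G.s G.t) (pullback.snd G.s G.t) pullback.condition = 𝟙 _ by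
      apply pullback.hom_ext <;> simp, Category.id_comp] at this
  refine ⟨G.c z, ?_, ?_⟩
  · rw [← Scheme.Hom.comp_apply, hs, Scheme.Hom.comp_apply, hz₂]
  · rw [← Scheme.Hom.comp_apply, ht, Scheme.Hom.comp_apply, hz₁]

theorem exists_inv (r : G.R) : ∃ r' : G.R, G.s r' = G.t r ∧ G.t r' = G.s r :=
  ⟨G.i r, by rw [← Scheme.Hom.comp_apply, G.i_s], by rw [← Scheme.Hom.comp_apply, G.i_t]⟩

theorem sat_invariant (E : Set G.U) (r : G.R) : G.s r ∈ sat G E ↔ G.t r ∈ sat G E := by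
  constructor
  · rintro ⟨r₀, hr₀, hr⟩
    obtain ⟨r', h1, h2⟩ := exists_comp G r r₀ hr.symm
    exact ⟨r', show G.s r' ∈ E by rw [h1]; exact hr₀, h2⟩
  · rintro ⟨r₀, hr₀, hr⟩
    obtain ⟨ri, h1, h2⟩ := exists_inv G r
    obtain ⟨r', h3, h4⟩ := exists_comp G ri r₀ (h1.trans hr.symm)
    exact ⟨r', show G.s r' ∈ E by rw [h3]; exact hr₀, h4.trans h2⟩

theorem isCompact_sat [QuasiCompact G.s] (W : G.U.Opens) (hW : IsCompact (W : Set G.U)) :
    IsCompact (sat G (W : Set G.U)) :=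
  (G.s.isCompact_preimage hW).image G.t.continuous

theorem exists_isCompact_open_superset {X : Scheme.{u}} (E : Set X) (hE : IsCompact E)
    (P : X → X.Opens → Prop) (hP : ∀ y ∈ E, ∃ V : X.Opens, y ∈ V ∧ IsCompact (V : Set X) ∧ P y V) :
    ∃ (F : Finset E) (V : ↥E → X.Opens), (∀ y ∈ F, IsCompact (V y : Set X) ∧ P y.1 (V y)) ∧
      E ⊆ ⋃ y ∈ F, (V y : Set X) := by
  choose V hV₁ hV₂ hV₃ using fun y : E => hP y.1 y.2
  obtain ⟨F, hF⟩ := hE.elim_finite_subcover (fun y => (V y : Set X)) (fun y => (V y).isOpen)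
    (fun y hy => Set.mem_iUnion.2 ⟨⟨y, hy⟩, hV₁ _⟩)
  exact ⟨F, V, fun y _ => ⟨hV₂ y, hV₃ y⟩, hF⟩

/-- A compact set stable under generalization is an intersection of quasi-compact opens. -/
theorem exists_eq_iInter {X : Scheme.{u}} (E : Set X) (hE : IsCompact E) (hg : StableUnderGeneralization E) :
    ∃ (ι : Type u) (_ : Nonempty ι) (V : ι → X.Opens), (∀ i, IsCompact (V i : Set X)) ∧
      E = ⋂ i, (V i : Set X) := by
  have key : ∀ (P : X → X.Opens → Prop),
      (∀ y ∈ E, ∃ V : X.Opens, y ∈ V ∧ IsCompact (V : Set X) ∧ P y V) →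
        ∃ V : X.Opens, IsCompact (V : Set X) ∧ E ⊆ V ∧ ∀ x ∈ V, ∃ (y : X) (V' : X.Opens), x ∈ V' ∧ P y V' := by
    intro P hP
    obtain ⟨F, V, hV, hF⟩ := exists_isCompact_open_superset E hE P hP
    refine ⟨⨆ y ∈ F, V y, ?_, ?_, ?_⟩
    · simpa using F.isCompact_biUnion fun y hy => (hV y hy).1
    · simpa using hF
    · intro x hx
      simp only [TopologicalSpace.Opens.mem_iSup] at hx
      obtain ⟨y, hy, hxy⟩ := hx
      exact ⟨y.1, V y, hxy, (hV y hy).2⟩
  let ι := {V : X.Opens // IsCompact (V : Set X) ∧ E ⊆ V}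
  have hne : Nonempty ι := by
    obtain ⟨V, h1, h2, -⟩ := key (fun _ _ => True) fun y _ => by
      obtain ⟨_, ⟨A, hA, rfl⟩, hyA, -⟩ :=
        X.isBasis_affineOpens.exists_subset_of_mem_open (Set.mem_univ y) isOpen_univ
      exact ⟨A, hyA, hA.isCompact, trivial⟩
    exact ⟨⟨V, h1, h2⟩⟩
  refine ⟨ι, hne, fun i => i.1, fun i => i.2.1, subset_antisymm (Set.subset_iInter fun i => i.2.2) ?_⟩
  intro x hx
  by_contra hxE
  obtain ⟨V, h1, h2, h3⟩ := key (fun _ V => x ∉ V) fun y hy => by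
    have hxy : ¬ x ⤳ y := fun h => hxE (hg h hy)
    rw [specializes_iff_forall_open] at hxy
    push Not at hxy
    obtain ⟨O, hO, hyO, hxO⟩ := hxy
    obtain ⟨_, ⟨A, hA, rfl⟩, hyA, hAO⟩ := X.isBasis_affineOpens.exists_subset_of_mem_open hyO hO
    exact ⟨A, hyA, hA.isCompact, fun h => hxO (hAO h)⟩
  obtain ⟨y, V', hxV', hV'⟩ := h3 x (Set.mem_iInter.1 hx ⟨V, h1, h2⟩)
  exact hV' hxV'

theorem stableUnderGeneralization_sat [Flat G.t] (W : G.U.Opens) :
    StableUnderGeneralization (sat G (W : Set G.U)) :=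
  (Flat.generalizingMap G.t).stableUnderGeneralization_image
    (G.s.continuous.isOpen_preimage _ W.isOpen).stableUnderGeneralization

theorem exists_invariant_between [QuasiCompact G.s] [Flat G.s] [QuasiCompact G.t]
    (W : G.U.Opens) (hW : IsCompact (W : Set G.U)) :
    ∃ V W' : G.U.Opens, G.s ⁻¹ᵁ V = G.t ⁻¹ᵁ V ∧ IsCompact (W' : Set G.U) ∧ W ≤ V ∧ V ≤ W' := by
  obtain ⟨F, V₀, hV₀, hF⟩ := exists_isCompact_open_superset (sat G (W : Set G.U)) (isCompact_sat G W hW)
    (fun _ _ => True) fun y _ => by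
      obtain ⟨_, ⟨A, hA, rfl⟩, hyA, -⟩ :=
        G.U.isBasis_affineOpens.exists_subset_of_mem_open (Set.mem_univ y) isOpen_univ
      exact ⟨A, hyA, hA.isCompact, trivial⟩
  let W' : G.U.Opens := ⨆ y ∈ F, V₀ y
  have hW'c : IsCompact (W' : Set G.U) := by
    simpa [W'] using F.isCompact_biUnion fun y hy => (hV₀ y hy).1
  have hsW' : sat G (W : Set G.U) ⊆ W' := by simpa [W'] using hF
  let Z : Set G.U := (W' : Set G.U)ᶜ
  let T : Set G.U := sat G Z
  have hcl : ∀ x ∈ closure T, ∃ f ∈ T, f ⤳ x := by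
    intro x hx
    let C : TopologicalSpace.Closeds G.R :=
      ⟨⇑G.s ⁻¹' Z, W'.isOpen.isClosed_compl.preimage G.s.continuous⟩
    let I : G.R.IdealSheafData := Scheme.IdealSheafData.vanishingIdeal C
    have hr : Set.range (I.subschemeι ≫ G.t) = T := by
      show Set.range (⇑G.t ∘ ⇑I.subschemeι) = _
      rw [Set.range_comp, Scheme.IdealSheafData.range_subschemeι]
      simp only [I, Scheme.IdealSheafData.coe_support_vanishingIdeal]
      rfl
    obtain ⟨a, ha⟩ := Groth.L19.exists_specializes_of_mem_closure_range (I.subschemeι ≫ G.t) (hr ▸ hx)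
    exact ⟨_, hr ▸ ⟨a, rfl⟩, ha⟩
  have hinv : ∀ r : G.R, G.s r ∈ closure T → G.t r ∈ closure T := by
    intro r hr
    obtain ⟨f, hf, hfr⟩ := hcl _ hr
    obtain ⟨r', hr', rfl⟩ := Flat.generalizingMap G.s hfr
    exact (hr'.map G.t.continuous).mem_closed isClosed_closure (subset_closure ((sat_invariant G Z r').1 hf))
  have hdisj : Disjoint (W : Set G.U) (closure T) := by
    refine Disjoint.closure_right (Set.disjoint_left.2 fun x hxW hxT => ?_) W.isOpen
    obtain ⟨r, hrZ, rfl⟩ := hxT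
    obtain ⟨ri, h1, h2⟩ := exists_inv G r
    exact hrZ (hsW' ⟨ri, show G.s ri ∈ (W : Set G.U) by rw [h1]; exact hxW, h2⟩)
  refine ⟨⟨(closure T)ᶜ, isClosed_closure.isOpen_compl⟩, W', ?_, hW'c, ?_, ?_⟩
  · ext r
    show G.s r ∉ closure T ↔ G.t r ∉ closure T
    obtain ⟨ri, h1, h2⟩ := exists_inv G r
    exact not_congr ⟨hinv r, fun h => h2 ▸ hinv ri (h1.symm ▸ h)⟩
  · exact fun x hx h => Set.disjoint_left.1 hdisj hx h
  · intro x hx
    by_contra hxW'
    exact hx (subset_closure (subset_sat G Z hxW'))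

end Groth.L24.Orbit
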