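import Groth.Prelude.Def_Grpd
import Mathlib.AlgebraicGeometry.Morphisms.Separated
import Mathlib.AlgebraicGeometry.Morphisms.QuasiSeparated

/-!
# The diagonal of `j` is a base change of the identity section of the stabilizer
-/

set_option autoImplicit false
set_option backward.isDefEq.respectTransparency false
set_option backward.isDefEq.respectTransparency.types false

universe u

open CategoryTheory CategoryTheory.Limits AlgebraicGeometry

noncomputable section

namespace Groth.L24.Orbit

variable {S : Scheme.{u}} (G : Grpd.GroupoidScheme S)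

theorem fst_s_eq_snd_s : pullback.fst G.j G.j ≫ G.s = pullback.snd G.j G.j ≫ G.s := by
  have h := congrArg (· ≫ pullback.snd G.pU G.pU) (pullback.condition (f := G.j) (g := G.j))
  simpa [Grpd.GroupoidScheme.j] using h

theorem fst_t_eq_snd_t : pullback.fst G.j G.j ≫ G.t = pullback.snd G.j G.j ≫ G.t := by
  have h := congrArg (· ≫ pullback.fst G.pU G.pU) (pullback.condition (f := G.j) (g := G.j))
  simpa [Grpd.GroupoidScheme.j] using h

/-- `(α, β) ↦ α ∘ β⁻¹`. -/
def diffHom : pullback G.j G.j ⟶ G.R :=
  pullback.lift (pullback.fst G.j G.j) (pullback.snd G.j G.j ≫ G.i)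
    (by rw [Category.assoc, G.i_t, fst_s_eq_snd_s]) ≫ G.c

theorem diffHom_t : diffHom G ≫ G.t = pullback.fst G.j G.j ≫ G.t := G.comp_t _ _ _

theorem diffHom_s : diffHom G ≫ G.s = pullback.fst G.j G.j ≫ G.t := by
  rw [diffHom, G.comp_s, Category.assoc, G.i_s, fst_t_eq_snd_t]

/-- `(α, β) ↦ α ∘ β⁻¹` as a point of the stabilizer. -/
def diffStab : pullback G.j G.j ⟶ pullback G.j G.diag :=
  pullback.lift (diffHom G) (pullback.fst G.j G.j ≫ G.t) (by
    apply pullback.hom_ext
    · simp [Grpd.GroupoidScheme.j, Grpd.GroupoidScheme.diag, diffHom_t]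
    · simp [Grpd.GroupoidScheme.j, Grpd.GroupoidScheme.diag, diffHom_s])

theorem isPullback_diagonal :
    IsPullback (pullback.diagonal G.j) G.t (diffStab G) G.eStab := by
  have hw : pullback.diagonal G.j ≫ diffStab G = G.t ≫ G.eStab := by
    refine pullback.hom_ext (f := G.j) (g := G.diag) ?_ ?_
    · rw [Category.assoc, Category.assoc, diffStab, Grpd.GroupoidScheme.eStab, pullback.lift_fst]
      erw [pullback.lift_fst]
      rw [diffHom]
      have e : pullback.diagonal G.j ≫ pullback.lift (pullback.fst G.j G.j) (pullback.snd G.j G.j ≫ G.i)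
          (by rw [Category.assoc, G.i_t, fst_s_eq_snd_s]) =
          pullback.lift (f := G.s) (g := G.t) (𝟙 G.R) (𝟙 G.R ≫ G.i) (by simp [G.i_t]) := by
        apply pullback.hom_ext <;> simp
      rw [reassoc_of% e]
      simpa using G.comp_i (𝟙 G.R)
    · rw [Category.assoc, Category.assoc, diffStab, Grpd.GroupoidScheme.eStab, pullback.lift_snd]
      erw [pullback.lift_snd]
      simp
  refine ⟨⟨hw⟩, ⟨PullbackCone.IsLimit.mk _ (fun s => s.fst ≫ pullback.fst G.j G.j) ?_ ?_ ?_⟩⟩
  rotate_left 2
  · intro s m h1 h2
    rw [← h1]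
    simp
  all_goals intro s
  all_goals
    have hc := s.condition
    have hR : (s.fst ≫ diffHom G) = s.snd ≫ G.e := by
      have := congrArg (· ≫ pullback.fst G.j G.diag) hc
      simp only [Category.assoc, diffStab, Grpd.GroupoidScheme.eStab, pullback.lift_fst] at this
      exact this
    have hU : s.fst ≫ pullback.fst G.j G.j ≫ G.t = s.snd := by
      have := congrArg (· ≫ pullback.snd G.j G.diag) hc
      simp only [Category.assoc, diffStab, Grpd.GroupoidScheme.eStab, pullback.lift_snd] at this
      exact this.trans (Category.comp_id _)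
  · apply pullback.hom_ext
    · simp
    · simp only [Category.assoc, pullback.diagonal_snd, Category.comp_id]
      let α := s.fst ≫ pullback.fst G.j G.j
      let β := s.fst ≫ pullback.snd G.j G.j
      have hsαβ : α ≫ G.s = β ≫ G.s := by simp only [α, β, Category.assoc, fst_s_eq_snd_s]
      have htαβ : α ≫ G.t = β ≫ G.t := by simp only [α, β, Category.assoc, fst_t_eq_snd_t]
      show α = β
      have h1 : α ≫ G.s = (β ≫ G.i) ≫ G.t :=
        hsαβ.trans ((congrArg (β ≫ ·) G.i_t.symm).trans (Category.assoc _ _ _).symm)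
      have h2 : (β ≫ G.i) ≫ G.s = β ≫ G.t := (Category.assoc _ _ _).trans (congrArg (β ≫ ·) G.i_s)
      have hd : pullback.lift α (β ≫ G.i) h1 ≫ G.c = β ≫ G.t ≫ G.e := by
        rw [← reassoc_of% htαβ]
        calc pullback.lift α (β ≫ G.i) h1 ≫ G.c = s.fst ≫ diffHom G := by
              rw [diffHom, ← Category.assoc]
              congr 1
              apply pullback.hom_ext <;> simp [α, β]
          _ = _ := by rw [hR, ← hU]; simp only [α, Category.assoc]
      calc α = pullback.lift α (α ≫ G.s ≫ G.e) (by simp [G.e_t]) ≫ G.c := (G.comp_e α).symm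
        _ = pullback.lift α (pullback.lift (β ≫ G.i) β h2 ≫ G.c)
              (h1.trans (G.comp_t _ _ h2).symm) ≫ G.c := by
            congr 1
            apply pullback.hom_ext
            · simp
            · simp only [pullback.lift_snd]
              rw [G.i_comp, reassoc_of% hsαβ]
        _ = pullback.lift (pullback.lift α (β ≫ G.i) h1 ≫ G.c) β ((G.comp_s _ _ h1).trans h2) ≫ G.c :=
            (G.assoc α (β ≫ G.i) β h1 h2).symm
        _ = pullback.lift (β ≫ G.t ≫ G.e) β (by simp [G.e_s]) ≫ G.c := by
            congr 1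
            apply pullback.hom_ext <;> simp [hd]
        _ = β := G.e_comp β
  · rw [Category.assoc]; exact hU

theorem eStab_toU : G.eStab ≫ G.stabilizerToU = 𝟙 G.U := pullback.lift_snd _ _ _

/-- Separatedness of `j`, of the stabilizer and closedness of the identity section agree. -/
theorem separated_tfae :
    ((IsSeparated G.j ↔ IsSeparated G.stabilizerToU) ∧ (IsSeparated G.stabilizerToU ↔ IsClosedImmersion G.eStab)) ∧
      ((QuasiSeparated G.j ↔ QuasiSeparated G.stabilizerToU) ∧ (QuasiSeparated G.stabilizerToU ↔ QuasiCompact G.eStab)) := by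
  have hpb : IsPullback (pullback.fst G.j G.diag) G.stabilizerToU G.j G.diag := IsPullback.of_hasPullback _ _
  have sep1 : IsSeparated G.j → IsSeparated G.stabilizerToU := fun h =>
    MorphismProperty.of_isPullback (P := @IsSeparated) hpb h
  have sep2 : IsSeparated G.stabilizerToU → IsClosedImmersion G.eStab := fun h => by
    have : IsClosedImmersion (G.eStab ≫ G.stabilizerToU) := by rw [eStab_toU]; infer_instance
    exact IsClosedImmersion.of_comp G.eStab G.stabilizerToU
  have sep3 : IsClosedImmersion G.eStab → IsSeparated G.j := fun h =>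
    ⟨MorphismProperty.of_isPullback (P := @IsClosedImmersion) (isPullback_diagonal G).flip h⟩
  have qs1 : QuasiSeparated G.j → QuasiSeparated G.stabilizerToU := fun h =>
    MorphismProperty.of_isPullback (P := @QuasiSeparated) hpb h
  have qs2 : QuasiSeparated G.stabilizerToU → QuasiCompact G.eStab := fun h => by
    have : QuasiCompact (G.eStab ≫ G.stabilizerToU) := by rw [eStab_toU]; infer_instance
    exact QuasiCompact.of_comp G.eStab G.stabilizerToU
  have qs3 : QuasiCompact G.eStab → QuasiSeparated G.j := fun h =>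
    ⟨MorphismProperty.of_isPullback (P := @QuasiCompact) (isPullback_diagonal G).flip h⟩
  exact ⟨⟨⟨sep1, fun h => sep3 (sep2 h)⟩, ⟨sep2, fun h => sep1 (sep3 h)⟩⟩,
    ⟨⟨qs1, fun h => qs3 (qs2 h)⟩, ⟨qs2, fun h => qs1 (qs3 h)⟩⟩⟩

end Groth.L24.Orbit
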