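import Groth.Agent.L20.SchDesc.Main
import Mathlib.CategoryTheory.Subobject.Limits
import Mathlib.AlgebraicGeometry.Morphisms.FlatDescent
import Mathlib.AlgebraicGeometry.Sites.Fpqc

/-!
# Descent of subschemes along faithfully flat quasi-compact morphisms
-/

set_option autoImplicit false
set_option backward.isDefEq.respectTransparency false
set_option backward.isDefEq.respectTransparency.types false

universe u

open CategoryTheory CategoryTheory.Limits AlgebraicGeometry

noncomputable section

namespace Groth.L24.Orbit

variable {X X' : Scheme.{u}} (π : X ⟶ X')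

theorem le_of_pullback_le [Flat π] [Surjective π] [QuasiCompact π] {Y₁ Y₂ : Subobject X'}
    (h : (Subobject.pullback π).obj Y₁ ≤ (Subobject.pullback π).obj Y₂) : Y₁ ≤ Y₂ := by
  have sq₁ := Subobject.isPullback π Y₁
  have h₁ : Flat (Subobject.pullbackπ π Y₁) := MorphismProperty.of_isPullback (P := @Flat) sq₁.flip ‹_›
  have h₂ : Surjective (Subobject.pullbackπ π Y₁) :=
    MorphismProperty.of_isPullback (P := @Surjective) sq₁.flip ‹_›
  have h₃ : QuasiCompact (Subobject.pullbackπ π Y₁) :=
    MorphismProperty.of_isPullback (P := @QuasiCompact) sq₁.flip ‹_›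
  let g := Subobject.ofLE _ _ h ≫ Subobject.pullbackπ π Y₂
  have hg : g ≫ Y₂.arrow = Subobject.pullbackπ π Y₁ ≫ Y₁.arrow := by
    simp only [g, Category.assoc, (Subobject.isPullback π Y₂).w, Subobject.ofLE_arrow_assoc, sq₁.w]
  refine Subobject.le_of_comm (EffectiveEpi.desc (Subobject.pullbackπ π Y₁) g fun a b e => ?_) ?_
  · rw [← cancel_mono Y₂.arrow, Category.assoc a g, Category.assoc b g, hg, ← Category.assoc, e, Category.assoc]
  · rw [← cancel_epi (Subobject.pullbackπ π Y₁), EffectiveEpi.fac_assoc, hg]

/-- The descent datum of a subobject stable under the kernel pair. -/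
def stablePre (Y : Subobject X)
    (h : (Subobject.pullback (pullback.fst π π)).obj Y = (Subobject.pullback (pullback.snd π π)).obj Y) :
    Groth.L20.SchDesc.Pre π Y.arrow where
  act {T} v x hv := Y.factorThru x (by
    have h1 : ((Subobject.pullback (pullback.fst π π)).obj Y).Factors
        (pullback.lift (v ≫ Y.arrow) x ((Category.assoc _ _ _).trans hv)) := by
      apply pullback_factors
      rw [pullback.lift_fst]
      exact Subobject.factors_comp_arrow v
    rw [h, pullback_factors_iff, pullback.lift_snd] at h1
    exact h1)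
  hom v x hv := Subobject.factorThru_arrow _ _ _
  natural g v x hv hv' := by
    rw [← cancel_mono Y.arrow]
    simp only [Category.assoc, Subobject.factorThru_arrow]
  self v hv := by rw [← cancel_mono Y.arrow, Subobject.factorThru_arrow]
  comp v x y hv hv' hv'' := by
    rw [← cancel_mono Y.arrow, Subobject.factorThru_arrow]

theorem bijOn_pullback [Flat π] [Surjective π] [QuasiCompact π]
    (P : MorphismProperty Scheme.{u}) [P.IsStableUnderBaseChange] [P.RespectsIso]
    [P.DescendsAlong (@Surjective ⊓ @Flat ⊓ @QuasiCompact)]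
    (hmono : ∀ {A B : Scheme.{u}} (f : A ⟶ B), P f → Mono f ∧ IsImmersion f) :
    Set.BijOn (Subobject.pullback π).obj
      {Y' : Subobject X' | P Y'.arrow}
      {Y : Subobject X | P Y.arrow ∧
        (Subobject.pullback (pullback.fst π π)).obj Y = (Subobject.pullback (pullback.snd π π)).obj Y} := by
  refine ⟨fun Y' hY' => ⟨MorphismProperty.of_isPullback (P := P) (Subobject.isPullback π Y') hY', ?_⟩,
    fun Y₁ _ Y₂ _ h => le_antisymm (le_of_pullback_le π h.le) (le_of_pullback_le π h.ge), ?_⟩
  · rw [← Subobject.pullback_comp, ← Subobject.pullback_comp, pullback.condition]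
  · rintro Y ⟨hY, hst⟩
    have := (hmono _ hY).2
    obtain ⟨d⟩ := Groth.L20.SchDesc.effective_of_isIndQuasiAffineHom
      (Groth.L20.isIndQuasiAffineHom_of_isImmersion Y.arrow) (stablePre π Y hst)
    have ha : P d.a := MorphismProperty.of_isPullback_of_descendsAlong (P := P)
      (Q := (@Surjective ⊓ @Flat ⊓ @QuasiCompact : MorphismProperty Scheme.{u}))
      d.isPullback ⟨⟨‹_›, ‹_›⟩, ‹_›⟩ hY
    have := (hmono _ ha).1
    refine ⟨Subobject.mk d.a, ?_, ?_⟩
    · show P (Subobject.mk d.a).arrow
      rw [← Subobject.underlyingIso_hom_comp_eq_mk]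
      exact (P.cancel_left_of_respectsIso _ _).2 ha
    · rw [Subobject.pullback_obj_mk d.isPullback.flip, Subobject.mk_arrow]

end Groth.L24.Orbit
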